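import Mathlib

/-!
# Semilinear injective maps and `p`-th roots at nodes
-/

set_option autoImplicit false
set_option linter.style.haveILetI false

universe u v

noncomputable section

open scoped nonZeroDivisors

namespace Groth.Agent.FrobNodeLib

/-- An injective `p`-semilinear endomorphism of a finite dimensional space over a perfect field is onto. -/
theorem surjective_of_semilinear {k : Type u} [Field k] (p : ℕ) [Fact p.Prime] [CharP k p] [PerfectRing k p]
    {Q : Type v} [AddCommGroup Q] [Module k Q] [Module.Finite k Q] (F : Q →+ Q)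
    (hF : ∀ (c : k) (x : Q), F (c • x) = c ^ p • F x) (hinj : Function.Injective F) :
    Function.Surjective F := by
  classical
  let b := Module.Free.chooseBasis k Q
  have hroot : ∀ c : k, ∃ d : k, d ^ p = c := fun c =>
    ⟨(frobeniusEquiv k p).symm c, (frobeniusEquiv k p).apply_symm_apply c⟩
  choose r hr using hroot
  have hsum : ∀ g : Module.Free.ChooseBasisIndex k Q → k,
      F (∑ i, r (g i) • b i) = ∑ i, g i • F (b i) := fun g => by
    rw [map_sum]
    exact Finset.sum_congr rfl fun i _ => by rw [hF, hr]
  have hli : LinearIndependent k fun i => F (b i) := by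
    rw [Fintype.linearIndependent_iff]
    intro g hg i
    have h0 : ∑ i, r (g i) • b i = 0 := hinj ((hsum g).trans (hg.trans (map_zero F).symm))
    have h1 := Fintype.linearIndependent_iff.1 b.linearIndependent _ h0 i
    rw [← hr (g i), h1, zero_pow (Fact.out : p.Prime).ne_zero]
  intro y
  have hspan := hli.span_eq_top_of_card_eq_finrank' (Module.finrank_eq_card_chooseBasisIndex k Q).symm
  obtain ⟨g, hg⟩ := (Submodule.mem_span_range_iff_exists_fun k).1 (hspan ▸ Submodule.mem_top : y ∈ _)
  exact ⟨_, (hsum g).trans hg⟩

/-- A finite dimensional reduced algebra over a perfect field is perfect. -/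
theorem pow_surjective {k : Type u} [Field k] (p : ℕ) [Fact p.Prime] [CharP k p] [PerfectRing k p]
    {A : Type v} [CommRing A] [Algebra k A] [Module.Finite k A] [IsReduced A] (a : A) :
    ∃ b : A, b ^ p = a := by
  rcases subsingleton_or_nontrivial A with h | h
  · exact ⟨0, Subsingleton.elim _ _⟩
  haveI : CharP A p := charP_of_injective_algebraMap (algebraMap k A).injective p
  refine surjective_of_semilinear (k := k) p (frobenius A p).toAddMonoidHom (fun c x => ?_) (frobenius_inj A p) a
  show (c • x) ^ p = c ^ p • x ^ p
  rw [smul_pow]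

/-- In a finite product of power series with equal constant terms `p`-th roots of fractions are integral. -/
theorem dvd_of_axes {S : Type v} [CommRing S] {K : Type u} [Field K] (p : ℕ) [Fact p.Prime] [CharP K p]
    (n : ℕ) (φ : S →+* (Fin n → PowerSeries K)) (hφ : Function.Injective φ)
    (hrange : Set.range φ = {f : Fin n → PowerSeries K | ∀ i j : Fin n,
      PowerSeries.constantCoeff (f i) = PowerSeries.constantCoeff (f j)})
    {u v a : S} (hv : v ∈ S⁰) (h : u ^ p = a * v ^ p) : v ∣ u := by
  classical
  have hvi : ∀ i, φ v i ≠ 0 := fun i h0 => by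
    have hmem : Pi.single i PowerSeries.X ∈ Set.range φ := by
      rw [hrange]
      intro a b
      rcases eq_or_ne a i with rfl | ha <;> rcases eq_or_ne b a with rfl | hb <;>
        simp [Pi.single_apply] <;> aesop
    obtain ⟨w, hw⟩ := hmem
    have hvw : w * v = 0 := hφ (by
      rw [map_mul, hw, map_zero]
      funext j
      rcases eq_or_ne j i with rfl | hj
      · simp [h0]
      · simp [hj])
    have hw0 : w = 0 := (mem_nonZeroDivisors_iff.1 hv).2 w hvw
    rw [hw0, map_zero] at hw
    exact PowerSeries.X_ne_zero (R := K) (by simpa using (congrFun hw i).symm)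
  have hd : ∀ i, φ v i ∣ φ u i := fun i => by
    refine (IsIntegrallyClosed.pow_dvd_pow_iff (Fact.out : p.Prime).ne_zero).1 ⟨φ a i, ?_⟩
    rw [mul_comm]
    exact congrFun (show (φ u) ^ p = φ a * (φ v) ^ p by rw [← map_pow, h, map_mul, map_pow]) i
  choose w hw using hd
  have hwp : ∀ i, φ a i = w i ^ p := fun i => by
    have h1 := congrFun (show (φ u) ^ p = φ a * (φ v) ^ p by rw [← map_pow, h, map_mul, map_pow]) i
    rw [Pi.pow_apply, Pi.mul_apply, Pi.pow_apply, hw i, mul_pow, mul_comm] at h1
    exact (mul_right_cancel₀ (pow_ne_zero p (hvi i)) h1).symm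
  obtain ⟨s, hs⟩ : w ∈ Set.range φ := by
    rw [hrange]
    intro i j
    have ha : φ a ∈ Set.range φ := ⟨a, rfl⟩
    rw [hrange] at ha
    have h1 := ha i j
    rw [hwp i, hwp j, map_pow, map_pow] at h1
    exact frobenius_inj K p h1
  exact ⟨s, hφ (by rw [map_mul, hs]; funext i; rw [Pi.mul_apply, ← hw i])⟩

/-- The same for a Noetherian ring with such a faithfully flat extension. -/
theorem dvd_of_faithfullyFlat {R S : Type u} [CommRing R] [CommRing S] [Algebra R S] [Module.FaithfullyFlat R S]
    (p : ℕ) (hS : ∀ u v a : S, v ∈ S⁰ → u ^ p = a * v ^ p → v ∣ u)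
    {u v a : R} (hv : v ∈ R⁰) (h : u ^ p = a * v ^ p) : v ∣ u := by
  have hv' : algebraMap R S v ∈ S⁰ := by
    have h1 : Function.Injective (LinearMap.lTensor S (LinearMap.mul R R v)) :=
      Module.Flat.lTensor_preserves_injective_linearMap _ fun a b hab => by
        simp only [LinearMap.mul_apply'] at hab
        exact (mul_cancel_left_mem_nonZeroDivisors hv).1 hab
    rw [mem_nonZeroDivisors_iff_right]
    intro z hz
    have h2 : LinearMap.lTensor S (LinearMap.mul R R v) (TensorProduct.tmul R z (1 : R)) = 0 := by
      rw [LinearMap.lTensor_tmul, LinearMap.mul_apply', mul_one, show (v : R) = v • (1 : R) by simp,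
        TensorProduct.tmul_smul, TensorProduct.smul_tmul', Algebra.smul_def, mul_comm, hz, TensorProduct.zero_tmul]
    have h3 := h1 (h2.trans (map_zero _).symm)
    have h4 := congrArg (TensorProduct.rid R S) h3
    simpa using h4
  have h1 := hS (algebraMap R S u) (algebraMap R S v) (algebraMap R S a) hv'
    (by rw [← map_pow, h, map_mul, map_pow])
  have h3 : u ∈ ((Ideal.span {v}).map (algebraMap R S)).comap (algebraMap R S) := by
    rw [Ideal.mem_comap]
    rwa [Ideal.map_span, Set.image_singleton, Ideal.mem_span_singleton]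
  rw [Ideal.comap_map_eq_self_of_faithfullyFlat, Ideal.mem_span_singleton] at h3
  exact h3

end Groth.Agent.FrobNodeLib
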