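import Groth.Agent.H1ClassLib.Basic
import Groth.Agent.CohBase.Affine

/-!
# Frobenius on first Čech cohomology along a birational affine morphism
-/

set_option autoImplicit false
set_option linter.style.haveILetI false
set_option backward.isDefEq.respectTransparency false

universe u

open CategoryTheory CategoryTheory.Limits AlgebraicGeometry Opposite TopologicalSpace

noncomputable section

namespace Groth.Agent.FrobNodeLib

open CohBase

variable {C C' : Scheme.{u}} (π : C' ⟶ C) {ι : Type u} (V : ι → C.Opens)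

/-- The structure sheaf as an abelian sheaf. -/
abbrev O (X : Scheme.{u}) : AbSh X := Coh.toAb (Coh.structureModule X)

/-- The pulled back covering. -/
abbrev pV (a : ι) : C'.Opens := π ⁻¹ᵁ V a

theorem inter_pV {n : ℕ} (i : Fin n → ι) : inter (pV π V) i = π ⁻¹ᵁ inter V i := by
  ext y
  show y ∈ inter (pV π V) i ↔ π y ∈ inter V i
  rw [mem_inter_iff, mem_inter_iff]
  rfl

/-- The pull-back of cochains. -/
def pb (n : ℕ) : CC V (O C).obj n →+ CC (pV π V) (O C').obj n where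
  toFun c i := (π.appLE (inter V i) (inter (pV π V) i) (inter_pV π V i).le).hom (c i)
  map_zero' := funext fun i => map_zero _
  map_add' a b := funext fun i => map_add _ _ _

theorem pb_apply {n : ℕ} (c : CC V (O C).obj n) (i : Fin (n + 1) → ι) :
    pb π V n c i = (π.appLE (inter V i) (inter (pV π V) i) (inter_pV π V i).le).hom (c i) := rfl

theorem appLE_res {W W' : C.Opens} {T T' : C'.Opens} (h : W' ≤ W) (h' : T' ≤ T) (e : T ≤ π ⁻¹ᵁ W)
    (e' : T' ≤ π ⁻¹ᵁ W') (s : (O C).obj.obj (op W)) :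
    res (O C').obj h' ((π.appLE W T e).hom s) = (π.appLE W' T' e').hom (res (O C).obj h s) := by
  show (π.appLE W T e ≫ C'.presheaf.map (homOfLE h').op).hom s = (C.presheaf.map (homOfLE h).op ≫ π.appLE W' T' e').hom s
  rw [Scheme.Hom.appLE_map, Scheme.Hom.map_appLE]

theorem cdiff_pb (n : ℕ) (c : CC V (O C).obj n) :
    cdiff (pV π V) (O C').obj n (pb π V n c) = pb π V (n + 1) (cdiff V (O C).obj n c) := by
  funext i
  rw [cdiff_apply, pb_apply, cdiff_apply, map_sum]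
  refine Finset.sum_congr rfl fun j _ => ?_
  rw [map_zsmul]
  congr 1
  exact appLE_res π _ _ _ _ _

theorem appLE_eq_bijective {W : C.Opens} {T : C'.Opens} (hT : T = π ⁻¹ᵁ W) (hb : Function.Bijective (π.app W).hom) :
    Function.Bijective (π.appLE W T hT.le).hom := by
  subst hT
  rw [Scheme.Hom.appLE_eq_app]
  exact hb

theorem appLE_eq_injective {W : C.Opens} {T : C'.Opens} (hT : T = π ⁻¹ᵁ W) (hb : Function.Injective (π.app W).hom) :
    Function.Injective (π.appLE W T hT.le).hom := by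
  subst hT
  rw [Scheme.Hom.appLE_eq_app]
  exact hb

variable (hinj : ∀ W : C.Opens, Function.Injective (π.app W).hom)

include hinj in
theorem pb_injective (n : ℕ) : Function.Injective (pb π V n) := fun a b h =>
  funext fun i => appLE_eq_injective π (inter_pV π V i) (hinj _) (congrFun h i)

variable (hoff : ∀ (W : C.Opens) (a b : ι), a ≠ b → W ≤ V a → W ≤ V b → Function.Bijective (π.app W).hom)

include hoff hinj in
/-- Cocycles in degree one descend. -/
theorem pb_one_surjective (z' : CC (pV π V) (O C').obj 1) (hz' : cdiff (pV π V) (O C').obj 1 z' = 0) :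
    ∃ z : CC V (O C).obj 1, cdiff V (O C).obj 1 z = 0 ∧ pb π V 1 z = z' := by
  classical
  have hdiag : ∀ a : ι, z' (fun _ => a) = 0 := fun a => by
    have h := congrFun hz' (fun _ => a)
    rw [cdiff_apply, Fin.sum_univ_three] at h
    have key : ∀ j : Fin 3, res (O C').obj (inter_comp_le (pV π V) (fun _ : Fin 3 => a) j.succAbove)
        (z' ((fun _ : Fin 3 => a) ∘ j.succAbove)) =
        res (O C').obj (inter_comp_le (pV π V) (fun _ : Fin 3 => a) (0 : Fin 3).succAbove)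
        (z' ((fun _ : Fin 3 => a) ∘ (0 : Fin 3).succAbove)) := fun j => rfl
    rw [key 1, key 2, Fin.val_zero, Fin.val_one, Fin.val_two, pow_zero, pow_one, neg_one_sq, one_zsmul,
      neg_one_zsmul] at h
    have h0 : res (O C').obj (show inter (pV π V) (fun _ : Fin 3 => a) ≤ inter (pV π V) (fun _ : Fin 2 => a) from
        inter_comp_le (pV π V) (fun _ : Fin 3 => a) (0 : Fin 3).succAbove)
        (z' (fun _ : Fin 2 => a)) = 0 := by
      rw [add_neg_cancel, zero_add] at h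
      exact h
    have hle : inter (pV π V) (fun _ : Fin 2 => a) ≤ inter (pV π V) (fun _ : Fin 3 => a) :=
      le_iInf fun _ => inter_le (pV π V) (fun _ : Fin 2 => a) 0
    have h1 := congrArg (res (O C').obj hle) h0
    rwa [res_res, map_zero, res_self] at h1
  have hex : ∀ i : Fin 2 → ι, ∃ s : (O C).obj.obj (op (inter V i)),
      (π.appLE (inter V i) (inter (pV π V) i) (inter_pV π V i).le).hom s = z' i := fun i => by
    by_cases hi : i 0 = i 1
    · have : i = fun _ => i 0 := funext fun j => by fin_cases j <;> simp [hi]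
      refine ⟨0, (map_zero _).trans ?_⟩
      rw [this]
      exact (hdiag (i 0)).symm
    · exact (appLE_eq_bijective π (inter_pV π V i) (hoff _ _ _ hi (inter_le V i 0) (inter_le V i 1))).2 _
  choose z hz using hex
  refine ⟨z, pb_injective π V hinj 2 ?_, funext hz⟩
  rw [← cdiff_pb, map_zero, show pb π V 1 z = z' from funext hz, hz']

variable (p : ℕ) (φ : O C ⟶ O C) (φ' : O C' ⟶ O C')
  (hφ : ∀ (W : C.Opens) (s : Γ(C, W)), (φ.hom.app (op W)).hom s = s ^ p)
  (hφ' : ∀ (W : C'.Opens) (s : Γ(C', W)), (φ'.hom.app (op W)).hom s = s ^ p)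

include hφ hφ' in
theorem pb_frob (n : ℕ) (c : CC V (O C).obj n) :
    pb π V n (ccMap V φ.hom n c) = ccMap (pV π V) φ'.hom n (pb π V n c) := funext fun i => by
  show (π.appLE _ _ _).hom ((φ.hom.app (op (inter V i))).hom (c i)) = (φ'.hom.app (op (inter (pV π V) i))).hom _
  erw [hφ, hφ']
  exact map_pow _ _ _

include hinj hoff hφ hφ' in
/-- Bijectivity of the Frobenius on first cohomology is insensitive to the morphism. -/
theorem bijective_iff (hcov : ⊤ ≤ iSup V) (hA : Acyclic V (O C)) (hA' : Acyclic (pV π V) (O C'))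
    (hroot : ∀ (a : ι) (b : Γ(C', π ⁻¹ᵁ V a)) (r : Γ(C, V a)), (π.app (V a)).hom r = b ^ p →
      ∃ r', (π.app (V a)).hom r' = b)
    (hpow : ∀ (a : ι) (b : Γ(C', π ⁻¹ᵁ V a)), ∃ c r, b = c ^ p + (π.app (V a)).hom r)
    (hglob : ∀ g : Γ(C', ⊤), ∃ h, h ^ p = g) :
    Function.Bijective (Sheaf.H.map φ 1) ↔ Function.Bijective (Sheaf.H.map φ' 1) := by
  classical
  have hcov' : ⊤ ≤ iSup (pV π V) := fun y _ => by
    obtain ⟨a, ha⟩ := Opens.mem_iSup.1 (hcov (Opens.mem_top (π y)))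
    exact Opens.mem_iSup.2 ⟨a, ha⟩
  obtain ⟨Φ, hΦ0, hΦn, hΦs⟩ := H1ClassLib.exists_class_surj V hcov (O C)
  obtain ⟨Φ', hΦ0', hΦn', hΦs'⟩ := H1ClassLib.exists_class_surj (pV π V) hcov' (O C')
  have hΦs := hΦs hA
  have hΦs' := hΦs' hA'
  let d := cdiff V (O C).obj 0
  let d' := cdiff (pV π V) (O C').obj 0
  let F := fun n => ccMap V φ.hom n
  let F' := fun n => ccMap (pV π V) φ'.hom n
  let P := pb π V 1
  have hPF : ∀ c, P (F 1 c) = F' 1 (P c) := fun c => pb_frob π V p φ φ' hφ hφ' 1 c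
  have hPd : ∀ a, d' (pb π V 0 a) = P (d a) := fun a => cdiff_pb π V 0 a
  have hFd : ∀ a, F 1 (d a) = d (F 0 a) := fun a => (cdiff_ccMap V φ.hom 0 a).symm
  have hFd' : ∀ a, F' 1 (d' a) = d' (F' 0 a) := fun a => (cdiff_ccMap (pV π V) φ'.hom 0 a).symm
  have hB : ∀ z, z ∈ Bc V (O C).obj 1 ↔ ∃ a, d a = z := fun z => AddMonoidHom.mem_range
  have hB' : ∀ z, z ∈ Bc (pV π V) (O C').obj 1 ↔ ∃ a, d' a = z := fun z => AddMonoidHom.mem_range
  -- splitting of the cochains upstairs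
  have hdec : ∀ b : CC (pV π V) (O C').obj 0, ∃ c a, b = F' 0 c + pb π V 0 a := by
    intro b
    have : ∀ (i : Fin 1 → ι) (W : C.Opens) (T : C'.Opens) (hW : W = V (i 0)) (hT : T = π ⁻¹ᵁ W) (s : Γ(C', T)),
        ∃ c r, s = c ^ p + (π.appLE W T hT.le).hom r := by
      intro i W T hW hT s
      subst hW hT
      rw [Scheme.Hom.appLE_eq_app]
      exact hpow (i 0) s
    choose c r hcr using fun i : Fin 1 → ι => this i (inter V i) (inter (pV π V) i)
      (by simp [inter, ciInf_unique]) (inter_pV π V i) (b i)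
    refine ⟨c, r, funext fun i => ?_⟩
    show b i = (φ'.hom.app (op _)).hom (c i) + _
    erw [hφ']
    exact hcr i
  have hroot' : ∀ (b : CC (pV π V) (O C').obj 0) (a : CC V (O C).obj 0), F' 0 b = pb π V 0 a →
      ∃ a', pb π V 0 a' = b := by
    intro b a hab
    have : ∀ (i : Fin 1 → ι) (W : C.Opens) (T : C'.Opens) (hW : W = V (i 0)) (hT : T = π ⁻¹ᵁ W) (s : Γ(C', T))
        (r : Γ(C, W)), (π.appLE W T hT.le).hom r = s ^ p → ∃ r', (π.appLE W T hT.le).hom r' = s := by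
      intro i W T hW hT s r
      subst hW hT
      rw [Scheme.Hom.appLE_eq_app]
      exact hroot (i 0) s r
    choose a' ha' using fun i : Fin 1 → ι => this i (inter V i) (inter (pV π V) i)
      (by simp [inter, ciInf_unique]) (inter_pV π V i) (b i) (a i) (by
        have h1 := (congrFun hab i).symm
        rw [pb_apply] at h1
        refine h1.trans ?_
        exact hφ' _ _)
    exact ⟨a', funext ha'⟩
  have hcyc : ∀ (z : Zc V (O C).obj 1), P z.1 ∈ Zc (pV π V) (O C').obj 1 := fun z => by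
    show cdiff _ _ 1 (pb π V 1 z.1) = 0
    rw [cdiff_pb, show cdiff V (O C).obj 1 z.1 = 0 from z.2, map_zero]
  have hlift : ∀ z' : Zc (pV π V) (O C').obj 1, ∃ z : Zc V (O C).obj 1, P z.1 = z'.1 := fun z' => by
    obtain ⟨z, hz, h⟩ := pb_one_surjective π V hinj hoff z'.1 z'.2
    exact ⟨⟨z, hz⟩, h⟩
  have hFmem : ∀ z : Zc V (O C).obj 1, F 1 z.1 ∈ Zc V (O C).obj 1 := fun z => ccMap_mem_Zc V φ.hom z
  have hFmem' : ∀ z : Zc (pV π V) (O C').obj 1, F' 1 z.1 ∈ Zc (pV π V) (O C').obj 1 :=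
    fun z => ccMap_mem_Zc (pV π V) φ'.hom z
  -- translation to cochains
  have e1 : Function.Bijective (Sheaf.H.map φ 1) ↔
      ((∀ z : Zc V (O C).obj 1, (∃ a, d a = F 1 z.1) → ∃ a, d a = z.1) ∧
        ∀ z : Zc V (O C).obj 1, ∃ (w : Zc V (O C).obj 1) (a : _), F 1 w.1 = z.1 + d a) := by
    have hcomm : ⇑(Sheaf.H.map φ 1) = (HEquiv (O C) 1).symm ∘ hmap (⊤ : Opens C) φ 1 ∘ HEquiv (O C) 1 := by
      funext x
      rw [Function.comp_apply, Function.comp_apply, ← HEquiv_map, AddEquiv.symm_apply_apply]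
    rw [hcomm, (HEquiv (O C) 1).symm.bijective.of_comp_iff' , Function.Bijective.of_comp_iff _ (HEquiv (O C) 1).bijective]
    constructor
    · rintro ⟨hi, hs⟩
      refine ⟨fun z hz => ?_, fun z => ?_⟩
      · rw [← hB, ← hΦ0]
        refine hi ?_
        rw [map_zero, ← hΦn φ z ⟨_, hFmem z⟩ rfl, hΦ0, hB]
        exact hz
      · obtain ⟨y, hy⟩ := hs (Φ z)
        obtain ⟨w, rfl⟩ := hΦs y
        rw [← hΦn φ w ⟨_, hFmem w⟩ rfl, ← sub_eq_zero, ← map_sub, hΦ0, hB] at hy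
        obtain ⟨a, ha⟩ := hy
        exact ⟨w, a, by rw [ha]; show F 1 w.1 = z.1 + (F 1 w.1 - z.1); abel⟩
    · rintro ⟨hi, hs⟩
      refine ⟨(injective_iff_map_eq_zero _).2 fun y hy => ?_, fun y => ?_⟩
      · obtain ⟨w, rfl⟩ := hΦs y
        rw [← hΦn φ w ⟨_, hFmem w⟩ rfl, hΦ0, hB] at hy
        rw [hΦ0, hB]
        exact hi w hy
      · obtain ⟨z, rfl⟩ := hΦs y
        obtain ⟨w, a, ha⟩ := hs z
        refine ⟨Φ w, ?_⟩
        rw [← hΦn φ w ⟨_, hFmem w⟩ rfl, ← sub_eq_zero, ← map_sub, hΦ0, hB]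
        exact ⟨a, by show d a = F 1 w.1 - z.1; rw [ha]; abel⟩
  have e2 : Function.Bijective (Sheaf.H.map φ' 1) ↔
      ((∀ z : Zc (pV π V) (O C').obj 1, (∃ a, d' a = F' 1 z.1) → ∃ a, d' a = z.1) ∧
        ∀ z : Zc (pV π V) (O C').obj 1, ∃ (w : Zc (pV π V) (O C').obj 1) (a : _), F' 1 w.1 = z.1 + d' a) := by
    have hcomm : ⇑(Sheaf.H.map φ' 1) = (HEquiv (O C') 1).symm ∘ hmap (⊤ : Opens C') φ' 1 ∘ HEquiv (O C') 1 := by
      funext x
      rw [Function.comp_apply, Function.comp_apply, ← HEquiv_map, AddEquiv.symm_apply_apply]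
    rw [hcomm, (HEquiv (O C') 1).symm.bijective.of_comp_iff' , Function.Bijective.of_comp_iff _ (HEquiv (O C') 1).bijective]
    constructor
    · rintro ⟨hi, hs⟩
      refine ⟨fun z hz => ?_, fun z => ?_⟩
      · rw [← hB', ← hΦ0']
        refine hi ?_
        rw [map_zero, ← hΦn' φ' z ⟨_, hFmem' z⟩ rfl, hΦ0', hB']
        exact hz
      · obtain ⟨y, hy⟩ := hs (Φ' z)
        obtain ⟨w, rfl⟩ := hΦs' y
        rw [← hΦn' φ' w ⟨_, hFmem' w⟩ rfl, ← sub_eq_zero, ← map_sub, hΦ0', hB'] at hy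
        obtain ⟨a, ha⟩ := hy
        exact ⟨w, a, by rw [ha]; show F' 1 w.1 = z.1 + (F' 1 w.1 - z.1); abel⟩
    · rintro ⟨hi, hs⟩
      refine ⟨(injective_iff_map_eq_zero _).2 fun y hy => ?_, fun y => ?_⟩
      · obtain ⟨w, rfl⟩ := hΦs' y
        rw [← hΦn' φ' w ⟨_, hFmem' w⟩ rfl, hΦ0', hB'] at hy
        rw [hΦ0', hB']
        exact hi w hy
      · obtain ⟨z, rfl⟩ := hΦs' y
        obtain ⟨w, a, ha⟩ := hs z
        refine ⟨Φ' w, ?_⟩
        rw [← hΦn' φ' w ⟨_, hFmem' w⟩ rfl, ← sub_eq_zero, ← map_sub, hΦ0', hB']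
        exact ⟨a, by show d' a = F' 1 w.1 - z.1; rw [ha]; abel⟩
  have hPinj : Function.Injective P := pb_injective π V hinj 1
  have hdcyc : ∀ c, d' c ∈ Zc (pV π V) (O C').obj 1 := fun c => cdiff_cdiff _ _ _
  rw [e1, e2]
  constructor
  · rintro ⟨hi, hs⟩
    refine ⟨fun z' hz => ?_, fun z' => ?_⟩
    · obtain ⟨b, hb⟩ := hz
      obtain ⟨c, a, rfl⟩ := hdec b
      obtain ⟨z, hz⟩ := hlift z'
      obtain ⟨w, hw⟩ := hlift ⟨_, hdcyc c⟩
      have h1 : F 1 z.1 = F 1 w.1 + d a := hPinj (by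
        rw [map_add, hPF, hPF, hz, hw, hFd', ← hPd, ← map_add]
        exact hb.symm)
      obtain ⟨a₂, ha₂⟩ := hi (z - w) ⟨a, by
        show d a = F 1 (z.1 - w.1)
        rw [map_sub, h1]; abel⟩
      refine ⟨pb π V 0 a₂ + c, ?_⟩
      rw [map_add, hPd, ha₂]
      show P (z.1 - w.1) + d' c = z'.1
      rw [map_sub, hz, show P w.1 = d' c from hw, sub_add_cancel]
    · obtain ⟨z, hz⟩ := hlift z'
      obtain ⟨w, a, ha⟩ := hs z
      refine ⟨⟨P w.1, hcyc w⟩, pb π V 0 a, ?_⟩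
      show F' 1 (P w.1) = _
      rw [← hPF, ha, map_add, hz, hPd]
  · rintro ⟨hi, hs⟩
    refine ⟨fun z hz => ?_, fun z => ?_⟩
    · obtain ⟨a, ha⟩ := hz
      obtain ⟨b, hb⟩ := hi ⟨P z.1, hcyc z⟩ ⟨pb π V 0 a, by rw [hPd, ha]; exact hPF _⟩
      have hb : d' b = P z.1 := hb
      have h0 : d' (F' 0 b - pb π V 0 a) = 0 := by rw [map_sub, ← hFd', hb, ← hPF, ← ha, hPd, sub_self]
      obtain ⟨g, hg⟩ := aug_exact (O C') (fun _ => le_top) hcov' _ h0
      obtain ⟨h, hh⟩ := hglob g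
      let e := aug (pV π V) (O C').obj (fun _ => le_top) (show (O C').obj.obj (op (⊤ : Opens C')) from h)
      have he : F' 0 (b - e) = pb π V 0 a := by
        rw [map_sub]
        have : F' 0 e = aug (pV π V) (O C').obj (fun _ => le_top) g := by
          funext i
          show (φ'.hom.app _).hom (res (O C').obj _ _) = res (O C').obj _ g
          rw [← hh]
          erw [hφ']
          exact (map_pow (C'.presheaf.map _).hom h p).symm
        rw [this, hg]; abel
      obtain ⟨a', ha'⟩ := hroot' _ _ he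
      refine ⟨a', hPinj ?_⟩
      rw [← hPd, ha', map_sub, hb, show d' e = 0 from cdiff_aug _ _ _, sub_zero]
    · obtain ⟨w', b, hb⟩ := hs ⟨P z.1, hcyc z⟩
      obtain ⟨c, a, rfl⟩ := hdec b
      obtain ⟨w, hw⟩ := hlift w'
      obtain ⟨w₂, hw₂⟩ := hlift ⟨_, hdcyc c⟩
      refine ⟨w - w₂, a, hPinj ?_⟩
      show P (F 1 (w.1 - w₂.1)) = P (z.1 + d a)
      rw [map_sub, map_sub, hPF, hPF, hw, hw₂, hb, map_add, map_add, hFd', hPd]
      show P z.1 + (d' (F' 0 c) + P (d a)) - d' (F' 0 c) = P z.1 + P (d a)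
      abel

end Groth.Agent.FrobNodeLib
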