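import Groth.Agent.FrobNodeLib.Alg
import Groth.Agent.NormNodeLib.Branches
import Groth.Agent.PurityLib.Normal
import Groth.Agent.ASp.GeomRedEt
import Groth.Prelude.Def_Pi1

/-!
# The Frobenius on the conductor module of the normalization of a nodal curve
-/

set_option autoImplicit false
set_option linter.style.haveILetI false
set_option backward.isDefEq.respectTransparency false

universe u

open CategoryTheory CategoryTheory.Limits AlgebraicGeometry TopologicalSpace IsLocalRing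
open Groth.Agent.DeltaBC
open scoped nonZeroDivisors

noncomputable section

namespace Groth.Agent.FrobNodeLib

variable {k : Type u} [Field k] [IsAlgClosed k] (p : ℕ) [Fact p.Prime] [CharP k p]
  {C C' : Scheme.{u}} [C.Over (Spec (CommRingCat.of k))] [IsReduced C]
  [LocallyOfFiniteType (C ↘ Spec (CommRingCat.of k))]

/-- `p`-th roots of fractions at a node or a smooth point are integral. -/
theorem dvd_stalk {x : C}
    (hx : (∃ U : C.Opens, x ∈ U ∧ Smooth (U.ι ≫ (C ↘ Spec (CommRingCat.of k)))) ∨ Curv2.IsNode k C x)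
    {u v a : C.presheaf.stalk x} (hv : v ∈ (C.presheaf.stalk x)⁰) (h : u ^ p = a * v ^ p) : v ∣ u := by
  rcases hx with ⟨U, hU, hs⟩ | hn
  · haveI := hs
    haveI := ASp.isRegularLocalRing_stalk_of_smooth_field (U.ι ≫ (C ↘ Spec (CommRingCat.of k))) ⟨x, hU⟩
    haveI : IsRegularLocalRing (C.presheaf.stalk x) :=
      IsRegularLocalRing.of_ringEquiv (asIso (U.ι.stalkMap ⟨x, hU⟩)).commRingCatIsoToRingEquiv.symm
    obtain ⟨_, _⟩ := PurityLib.isIntegrallyClosed_of_regular (C.presheaf.stalk x)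
    exact (IsIntegrallyClosed.pow_dvd_pow_iff (Fact.out : p.Prime).ne_zero).1 ⟨a, by rw [h, mul_comm]⟩
  · obtain ⟨hx, z, rfl, h'⟩ := hn
    let K := AlgebraicClosure k
    haveI : IsIso (CommRingCat.ofHom (algebraMap k K)) :=
      (RingEquiv.ofBijective (algebraMap k K) (IsAlgClosed.algebraMap_bijective_of_isIntegral (k := k))).toCommRingCatIso.isIso_hom
    let π := Curv2.bcFst k C K
    haveI : IsIso π := inferInstanceAs (IsIso (pullback.fst _ _))
    letI : (Curv2.bc k C K).Over (Spec (CommRingCat.of K)) := ⟨Curv2.bcSnd k C K⟩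
    letI := Curv2.stalkAlgebra K (Curv2.bc k C K) z
    haveI := LocallyOfFiniteType.isLocallyNoetherian (C ↘ Spec (CommRingCat.of k))
    haveI : IsLocallyNoetherian (Curv2.bc k C K) := LocallyOfFiniteType.isLocallyNoetherian π
    let φ : C.presheaf.stalk (π z) →+* (Curv2.bc k C K).presheaf.stalk z := (π.stalkMap z).hom
    have hb : Function.Bijective φ := ConcreteCategory.bijective_of_isIso (π.stalkMap z)
    let E := RingEquiv.ofBijective φ hb
    letI : Algebra K (C.presheaf.stalk (π z)) :=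
      (E.symm.toRingHom.comp (algebraMap K ((Curv2.bc k C K).presheaf.stalk z))).toAlgebra
    haveI : IsLocalHom φ := π.toLRSHom.prop z
    have hm : (maximalIdeal (C.presheaf.stalk (π z))).map φ = maximalIdeal ((Curv2.bc k C K).presheaf.stalk z) := by
      rw [← IsLocalRing.maximalIdeal_comap φ, Ideal.map_comap_of_surjective φ hb.2]
    have hres : Function.Surjective (ResidueField.map φ) := fun c => by
      obtain ⟨b, rfl⟩ := residue_surjective c
      obtain ⟨a, rfl⟩ := hb.2 b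
      exact ⟨residue _ a, ResidueField.map_residue φ a⟩
    obtain ⟨e, -⟩ := (NodalLib.isOrdDoublePt_iff φ (Flat.stalkMap π z) hm ⟨RingHom.injective _, hres⟩
      (RingHom.ext fun c => E.apply_symm_apply _)).2 h'
    let e2 : AdicCompletion (maximalIdeal (C.presheaf.stalk (π z))) (C.presheaf.stalk (π z)) ≃+*
        (MvPowerSeries (Fin 2) K ⧸ Ideal.span {f : MvPowerSeries (Fin 2) K |
          ∃ i j : Fin 2, i ≠ j ∧ f = MvPowerSeries.X i * MvPowerSeries.X j}) :=
      e.trans (Ideal.quotEquivOfEq (NormNodeLib.axes_span_two K).symm)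
    obtain ⟨ψ, hψ, hr⟩ := exists_phi_of_axes _ 2 (by norm_num) e2
    haveI : CharP K p := charP_of_injective_algebraMap (algebraMap k K).injective p
    haveI := RegLocal.faithfullyFlat_completion (C.presheaf.stalk (π z)) _
      (maximalIdeal.isMaximal (C.presheaf.stalk (π z))).ne_top
    exact dvd_of_faithfullyFlat p (fun u' v' a' hv' he => dvd_of_axes p 2 ψ hψ hr hv' he) hv h

/-- A morphism which is an isomorphism over `U` is bijective on sections below `U`. -/
theorem app_bijective_of_le (π : C' ⟶ C) {U W : C.Opens} [IsIso (π ∣_ U)] (hW : W ≤ U) :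
    Function.Bijective (π.app W).hom := by
  have h1 : U.ι ''ᵁ (U.ι ⁻¹ᵁ W) = W := by
    rw [Scheme.Hom.image_preimage_eq_opensRange_inf, Scheme.Opens.opensRange_ι, inf_eq_right.2 hW]
  have h2 : Function.Bijective (π.app (U.ι ''ᵁ (U.ι ⁻¹ᵁ W))).hom := by
    have := ConcreteCategory.bijective_of_isIso ((π ∣_ U).app (U.ι ⁻¹ᵁ W))
    rw [morphismRestrict_app] at this
    exact ((ConcreteCategory.bijective_of_isIso (C'.presheaf.map (eqToHom _).op)).of_comp_iff'
      (π.app (U.ι ''ᵁ (U.ι ⁻¹ᵁ W))).hom).1 this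
  rw [h1] at h2
  exact h2

theorem app_injective (π : C' ⟶ C) [Surjective π] (W : C.Opens) : Function.Injective (π.app W).hom := by
  refine (injective_iff_map_eq_zero (π.app W).hom).2 fun r hr => eq_zero_of_basicOpen_eq_bot r ?_
  refine le_bot_iff.1 fun x hx => ?_
  obtain ⟨z, rfl⟩ := π.surjective x
  have h1 : z ∈ π ⁻¹ᵁ C.basicOpen r := hx
  rw [Scheme.preimage_basicOpen, show π.app W r = 0 from hr, Scheme.basicOpen_zero] at h1
  exact h1

/-- The structure map of the base field on sections. -/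
def strMap (X : Scheme.{u}) [X.Over (Spec (CommRingCat.of k))] (U : X.Opens) : CommRingCat.of k ⟶ Γ(X, U) :=
  (Scheme.ΓSpecIso (CommRingCat.of k)).inv ≫
    (X ↘ Spec (CommRingCat.of k)).appLE ⊤ U (by rw [Scheme.Hom.preimage_top]; exact le_top)

/-- On an affine open with a single bad point: roots of functions descend and every function is a
`p`-th power modulo functions from below. -/
theorem local_frob [IsReduced C'] (π : C' ⟶ C) [IsFinite π] [Surjective π] {U : C.Opens}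
    (hU : Dense (U : Set C)) (hU' : Dense ((π ⁻¹ᵁ U : C'.Opens) : Set C')) [IsIso (π ∣_ U)]
    {V : C.Opens} (hV : IsAffineOpen V) {x : C} (hx : IsClosed ({x} : Set C)) (hxV : x ∈ V) (hxU : x ∉ U)
    (hnx : (∃ U : C.Opens, x ∈ U ∧ Smooth (U.ι ≫ (C ↘ Spec (CommRingCat.of k)))) ∨ Curv2.IsNode k C x)
    (hVU : ∀ y ∈ V, y ∈ U ∨ y = x) :
    (∀ (b : Γ(C', π ⁻¹ᵁ V)) (a : Γ(C, V)), (π.app V).hom a = b ^ p → ∃ a', (π.app V).hom a' = b) ∧
      ∀ b : Γ(C', π ⁻¹ᵁ V), ∃ c a, b = c ^ p + (π.app V).hom a := by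
  let φ : Γ(C, V) →+* Γ(C', π ⁻¹ᵁ V) := (π.app V).hom
  have hinj : Function.Injective φ := app_injective π V
  haveI := LocallyOfFiniteType.isLocallyNoetherian (C ↘ Spec (CommRingCat.of k))
  letI : Algebra k Γ(C, V) := (strMap C V).hom.toAlgebra
  haveI : Algebra.FiniteType k Γ(C, V) := by
    have h1 : (strMap (k := k) C V).hom.FiniteType :=
      (LocallyOfFiniteType.finiteType_appLE (C ↘ Spec (CommRingCat.of k)) (U := ⊤) (isAffineOpen_top _) hV
        (by rw [Scheme.Hom.preimage_top]; exact le_top)).comp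
        (RingHom.FiniteType.of_surjective _ (Scheme.ΓSpecIso (CommRingCat.of k)).symm.commRingCatIsoToRingEquiv.surjective)
    exact h1
  haveI : IsNoetherianRing Γ(C, V) := Algebra.FiniteType.isNoetherianRing k _
  letI : Algebra Γ(C, V) Γ(C', π ⁻¹ᵁ V) := φ.toAlgebra
  haveI : Module.Finite Γ(C, V) Γ(C', π ⁻¹ᵁ V) := IsFinite.finite_app (f := π) V hV
  have hV' : IsAffineOpen (π ⁻¹ᵁ V) := hV.preimage π
  let P : Ideal Γ(C, V) := (hV.primeIdealOf ⟨x, hxV⟩).asIdeal
  haveI hPm : P.IsMaximal := hV.primeIdealOf_isMaximal_of_isClosed ⟨x, hxV⟩ hx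
  have hmem : ∀ (q : PrimeSpectrum Γ(C, V)) (g : Γ(C, V)), hV.fromSpec q ∈ C.basicOpen g ↔ g ∉ q.asIdeal := by
    intro q g
    show q ∈ hV.fromSpec ⁻¹ᵁ C.basicOpen g ↔ _
    rw [hV.fromSpec_preimage_basicOpen]
    rfl
  have hxb : ∀ g : Γ(C, V), x ∈ C.basicOpen g ↔ g ∉ P := fun g => by
    have := hmem (hV.primeIdealOf ⟨x, hxV⟩) g
    rwa [hV.fromSpec_primeIdealOf] at this
  have hPU : ∀ g ∈ P, C.basicOpen g ≤ U := fun g hg y hy => by
    rcases hVU y (C.basicOpen_le g hy) with h | rfl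
    · exact h
    · exact absurd hg ((hxb g).1 hy)
  -- the functions carrying the normalization into the base
  let I : Ideal Γ(C, V) := (LinearMap.range (Algebra.linearMap Γ(C, V) Γ(C', π ⁻¹ᵁ V))).colon Set.univ
  have hI : ∀ g : Γ(C, V), g ∈ I ↔ ∀ b, ∃ a, φ a = φ g * b := fun g => by
    simp only [I, Submodule.mem_colon, Set.mem_univ, true_implies, LinearMap.mem_range,
      Algebra.linearMap_apply, Algebra.smul_def]
    rfl
  have hloc : ∀ g ∈ P, ∀ b, ∃ (N : ℕ) (a : Γ(C, V)), φ a = φ (g ^ N) * b := by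
    intro g hg b
    haveI := hV.isLocalization_basicOpen g
    haveI := hV'.isLocalization_basicOpen (φ g)
    have hle : C'.basicOpen (φ g) ≤ π ⁻¹ᵁ C.basicOpen g := (Scheme.preimage_basicOpen π g).ge
    let r : Γ(C', π ⁻¹ᵁ V) →+* Γ(C', C'.basicOpen (φ g)) := algebraMap _ _
    let ψ : Γ(C, C.basicOpen g) →+* Γ(C', C'.basicOpen (φ g)) := (π.appLE _ _ hle).hom
    have hψ : Function.Bijective ψ := by
      show Function.Bijective (π.appLE _ _ hle).hom
      rw [Scheme.Hom.appLE, CommRingCat.hom_comp, RingHom.coe_comp]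
      refine Function.Bijective.comp ?_ (app_bijective_of_le π (hPU g hg))
      haveI : IsIso (homOfLE hle) := ⟨homOfLE (Scheme.preimage_basicOpen π g).le, rfl, rfl⟩
      exact ConcreteCategory.bijective_of_isIso (C'.presheaf.map (homOfLE hle).op)
    have hψc : ∀ a, ψ (algebraMap _ _ a) = r (φ a) := fun a => by
      show (C.presheaf.map _ ≫ π.appLE _ _ hle).hom a = (π.app V ≫ C'.presheaf.map _).hom a
      rw [Scheme.Hom.map_appLE, Scheme.Hom.app_eq_appLE, Scheme.Hom.appLE_map]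
    obtain ⟨s, hs⟩ := hψ.2 (r b)
    obtain ⟨⟨a, ⟨_, m, rfl⟩⟩, ham⟩ := IsLocalization.surj (Submonoid.powers g) s
    have h1 : r (φ (g ^ m) * b) = r (φ a) := by
      rw [map_mul, ← hs, ← hψc, ← hψc, ← map_mul, mul_comm]
      exact congrArg ψ ham
    obtain ⟨⟨_, n, rfl⟩, hn⟩ := (IsLocalization.eq_iff_exists (Submonoid.powers (φ g)) _).1 h1
    exact ⟨n + m, g ^ n * a, by
      rw [map_mul φ (g ^ n) a, pow_add, map_mul φ (g ^ n) (g ^ m), mul_assoc, map_pow φ g n]
      exact hn.symm⟩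
  have hrad : P ≤ I.radical := by
    intro g hg
    obtain ⟨G, hG⟩ := Module.Finite.fg_top (R := Γ(C, V)) (M := Γ(C', π ⁻¹ᵁ V))
    choose N a hNa using hloc g hg
    refine ⟨G.sup N, (hI _).2 fun b => ?_⟩
    let M : Submodule Γ(C, V) Γ(C', π ⁻¹ᵁ V) :=
      (LinearMap.range (Algebra.linearMap Γ(C, V) Γ(C', π ⁻¹ᵁ V))).comap
        (LinearMap.lsmul Γ(C, V) Γ(C', π ⁻¹ᵁ V) (g ^ G.sup N))
    have hb : b ∈ M := by
      refine (Submodule.span_le.2 fun e he => ?_) (hG ▸ Submodule.mem_top : b ∈ _)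
      refine ⟨g ^ (G.sup N - N e) * a e, ?_⟩
      show φ _ = φ (g ^ G.sup N) * e
      rw [map_mul, hNa, ← mul_assoc, ← map_mul, ← pow_add, Nat.sub_add_cancel (Finset.le_sup he)]
    exact hb
  -- a nonzerodivisor in it
  have hPmin : ∀ Q ∈ minimalPrimes Γ(C, V), ¬ P ≤ Q := by
    intro Q hQ hPQ
    have hQp : Q.IsPrime := hQ.1.1
    have hPQ' : P = Q := hPm.eq_of_le hQp.ne_top hPQ
    have hfin := minimalPrimes.finite_of_isNoetherianRing Γ(C, V)
    classical
    let S := hfin.toFinset.erase P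
    obtain ⟨h, hhS, hhP⟩ : ∃ h, (∀ Q' ∈ S, h ∈ Q') ∧ h ∉ P := by
      by_contra hne
      push Not at hne
      have hle : S.inf id ≤ P := fun h hh => hne h fun Q' hQ' => (Finset.inf_le (f := id) hQ' : S.inf id ≤ Q') hh
      obtain ⟨Q', hQ', hle'⟩ := (Ideal.IsPrime.inf_le' hPm.isPrime).1 hle
      have hQ'min : Q' ∈ minimalPrimes Γ(C, V) := hfin.mem_toFinset.1 (Finset.mem_of_mem_erase hQ')
      have hPmin' : P ∈ minimalPrimes Γ(C, V) := hPQ' ▸ hQ
      exact Finset.ne_of_mem_erase hQ' (le_antisymm hle' (hPmin'.2 hQ'min.1 hle'))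
    obtain ⟨y, hy, hyU⟩ := hU.inter_open_nonempty _ (C.basicOpen h).2 ⟨x, (hxb h).2 hhP⟩
    have hy' : y ∈ C.basicOpen h := hy
    have hyV : y ∈ V := C.basicOpen_le h hy'
    have hy2 : h ∉ (hV.primeIdealOf ⟨y, hyV⟩).asIdeal := by
      rw [← hmem, hV.fromSpec_primeIdealOf]
      exact hy'
    obtain ⟨Q', hQ', hle⟩ := Ideal.exists_minimalPrimes_le (bot_le : ⊥ ≤ (hV.primeIdealOf ⟨y, hyV⟩).asIdeal)
    have hQP : Q' = P := by
      by_contra hne
      exact hy2 (hle (hhS Q' (Finset.mem_erase.2 ⟨hne, hfin.mem_toFinset.2 hQ'⟩)))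
    have heq : hV.primeIdealOf ⟨x, hxV⟩ = hV.primeIdealOf ⟨y, hyV⟩ :=
      PrimeSpectrum.ext (hPm.eq_of_le (hV.primeIdealOf ⟨y, hyV⟩).2.ne_top (hQP.symm.le.trans hle))
    have := congrArg hV.fromSpec heq
    rw [hV.fromSpec_primeIdealOf, hV.fromSpec_primeIdealOf] at this
    exact hxU ((show x = y from this).symm ▸ hyU)
  obtain ⟨v₀, hv₀P, hv₀⟩ : ∃ v ∈ P, v ∈ (Γ(C, V))⁰ := by
    classical
    by_contra hne
    push Not at hne
    have hfin := minimalPrimes.finite_of_isNoetherianRing Γ(C, V)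
    haveI : _root_.IsReduced Γ(C, V) := IsReduced.component_reduced V
    have hsub : (P : Set Γ(C, V)) ⊆ ⋃ Q ∈ (hfin.toFinset : Set (Ideal Γ(C, V))), (id Q : Set Γ(C, V)) := by
      intro v hv
      by_contra hnot
      refine hne v hv (mem_nonZeroDivisors_iff_right.2 fun z hz => ?_)
      have h0 : z ∈ sInf (minimalPrimes Γ(C, V)) := by
        rw [Submodule.mem_sInf]
        intro Q hQ
        refine (hQ.1.1.mem_or_mem (show z * v ∈ Q by rw [hz]; exact Q.zero_mem)).resolve_right fun hvQ => ?_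
        exact hnot (Set.mem_biUnion (x := Q) (by simpa using hQ) hvQ)
      rw [show minimalPrimes Γ(C, V) = (⊥ : Ideal Γ(C, V)).minimalPrimes from rfl, Ideal.sInf_minimalPrimes] at h0
      obtain ⟨m, hm⟩ := h0
      exact IsReduced.eq_zero z ⟨m, by simpa using hm⟩
    obtain ⟨Q, hQ, hle⟩ := (Ideal.subset_union_prime P P fun i hi _ _ => (hfin.mem_toFinset.1 hi).1.1).1 hsub
    exact hPmin Q (hfin.mem_toFinset.1 hQ) hle
  obtain ⟨n₀, hn₀⟩ := hrad hv₀P
  let v : Γ(C, V) := v₀ ^ n₀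
  have hv : v ∈ (Γ(C, V))⁰ := pow_mem hv₀ n₀
  have hvI : v ∈ I := hn₀
  -- it is a nonzerodivisor upstairs
  have hvB : ∀ z, φ v * z = 0 → z = 0 := by
    intro z hz
    refine eq_zero_of_basicOpen_eq_bot z ?_
    by_contra hne
    obtain ⟨y, hy⟩ : ((C'.basicOpen z : C'.Opens) : Set C').Nonempty := by
      rw [Set.nonempty_iff_ne_empty]
      intro h0
      exact hne (SetLike.coe_injective h0)
    obtain ⟨y', hy', hy'U⟩ := hU'.inter_open_nonempty _ (C'.basicOpen z).2 ⟨y, hy⟩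
    have hy'V : y' ∈ π ⁻¹ᵁ V := C'.basicOpen_le z hy'
    have hy'U' : π y' ∈ U := hy'U
    let q := hV.primeIdealOf ⟨π y', hy'V⟩
    obtain ⟨g, hgP, hgq⟩ : ∃ g ∈ P, g ∉ q.asIdeal := SetLike.not_le_iff_exists.1 fun hle => by
      have heq : hV.primeIdealOf ⟨x, hxV⟩ = q := PrimeSpectrum.ext (hPm.eq_of_le q.2.ne_top hle)
      have := congrArg hV.fromSpec heq
      rw [hV.fromSpec_primeIdealOf, hV.fromSpec_primeIdealOf] at this
      exact hxU ((show x = π y' from this).symm ▸ hy'U')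
    obtain ⟨N, hN⟩ := hrad hgP
    obtain ⟨a, ha⟩ := (hI _).1 hN z
    have ha0 : a = 0 := by
      refine (mem_nonZeroDivisors_iff_right.1 hv) a (hinj ?_)
      rw [map_mul, ha, mul_assoc, mul_comm z, hz, mul_zero, map_zero]
    have h2 : y' ∈ C'.basicOpen (φ (g ^ N) * z) := by
      rw [Scheme.basicOpen_mul, ← Scheme.preimage_basicOpen]
      refine ⟨?_, hy'⟩
      show π y' ∈ C.basicOpen _
      have h3 := (hmem q (g ^ N)).2 fun h => hgq (q.2.mem_of_pow_mem N h)
      rwa [hV.fromSpec_primeIdealOf] at h3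
    rw [← ha, ha0, map_zero, Scheme.basicOpen_zero] at h2
    exact h2
  have hroot : ∀ (b : Γ(C', π ⁻¹ᵁ V)) (a : Γ(C, V)), φ a = b ^ p → ∃ a', φ a' = b := by
    intro b a hab
    obtain ⟨u, hu⟩ := (hI v).1 hvI b
    have hup : u ^ p = a * v ^ p := hinj (by rw [map_pow φ u p, hu, mul_pow, map_mul, map_pow φ v p, hab, mul_comm])
    have hdvd : u ∈ Ideal.span {v} := by
      refine Ideal.mem_of_localization_maximal fun M hM => ?_
      by_cases hMP : M = P
      · subst hMP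
        letI := C.presheaf.algebra_section_stalk (⟨x, hxV⟩ : V)
        haveI : IsLocalization.AtPrime (C.presheaf.stalk x) P := hV.isLocalization_stalk ⟨x, hxV⟩
        let e := IsLocalization.algEquiv P.primeCompl (C.presheaf.stalk x) (Localization.AtPrime P)
        have hvs : algebraMap Γ(C, V) (C.presheaf.stalk x) v ∈ (C.presheaf.stalk x)⁰ :=
          IsLocalization.map_nonZeroDivisors_le P.primeCompl (C.presheaf.stalk x) ⟨v, hv, rfl⟩
        obtain ⟨w, hw⟩ := dvd_stalk (k := k) p hnx hvs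
          (show (algebraMap Γ(C, V) (C.presheaf.stalk x) u) ^ p = algebraMap _ _ a * (algebraMap _ _ v) ^ p by
            rw [← map_pow, hup, map_mul, map_pow])
        rw [Ideal.map_span, Set.image_singleton, Ideal.mem_span_singleton]
        refine ⟨e w, ?_⟩
        have := congrArg e hw
        rwa [map_mul, e.commutes, e.commutes] at this
      · obtain ⟨g, hgP, hgM⟩ : ∃ g ∈ P, g ∉ M := SetLike.not_le_iff_exists.1 fun h =>
          hMP (hPm.eq_of_le hM.ne_top h).symm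
        obtain ⟨N, hN⟩ := hrad hgP
        obtain ⟨c, hc⟩ := (hI _).1 hN b
        have h1 : g ^ N * u = v * c := hinj (by rw [map_mul, hu, map_mul, hc, mul_left_comm])
        have h2 : IsUnit (algebraMap Γ(C, V) (Localization.AtPrime M) (g ^ N)) :=
          IsLocalization.map_units _ (⟨g ^ N, fun h => hgM (hM.isPrime.mem_of_pow_mem N h)⟩ : M.primeCompl)
        rw [Ideal.map_span, Set.image_singleton, Ideal.mem_span_singleton, ← h2.dvd_mul_left, ← map_mul, h1, map_mul]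
        exact dvd_mul_right _ _
    obtain ⟨w, rfl⟩ := Ideal.mem_span_singleton.1 hdvd
    refine ⟨w, (sub_eq_zero.1 (hvB (b - φ w) ?_)).symm⟩
    rw [mul_sub, ← hu, map_mul, sub_self]
  refine ⟨hroot, fun b => ?_⟩
  -- finiteness of the quotient
  letI : Algebra k Γ(C', π ⁻¹ᵁ V) := (φ.comp (algebraMap k Γ(C, V))).toAlgebra
  haveI : IsScalarTower k Γ(C, V) Γ(C', π ⁻¹ᵁ V) := IsScalarTower.of_algebraMap_eq fun c => rfl
  let R₀ : Submodule Γ(C, V) Γ(C', π ⁻¹ᵁ V) := LinearMap.range (Algebra.linearMap Γ(C, V) Γ(C', π ⁻¹ᵁ V))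
  have htor : Module.IsTorsionBySet Γ(C, V) (Γ(C', π ⁻¹ᵁ V) ⧸ R₀) (I : Set Γ(C, V)) := fun y g => by
    obtain ⟨y, rfl⟩ := Submodule.Quotient.mk_surjective _ y
    obtain ⟨a, ha⟩ := (hI g.1).1 g.2 y
    show Submodule.Quotient.mk ((g.1 : Γ(C, V)) • y) = 0
    rw [Submodule.Quotient.mk_eq_zero]
    exact ⟨a, ha⟩
  letI := htor.module
  haveI : IsScalarTower Γ(C, V) (Γ(C, V) ⧸ I) (Γ(C', π ⁻¹ᵁ V) ⧸ R₀) := htor.isScalarTower
  haveI : IsScalarTower k (Γ(C, V) ⧸ I) (Γ(C', π ⁻¹ᵁ V) ⧸ R₀) := htor.isScalarTower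
  haveI : Module.Finite (Γ(C, V) ⧸ I) (Γ(C', π ⁻¹ᵁ V) ⧸ R₀) :=
    Module.Finite.of_restrictScalars_finite Γ(C, V) _ _
  haveI : Module.Finite k (Γ(C, V) ⧸ I) := by
    haveI : Algebra.FiniteType k (Γ(C, V) ⧸ I) :=
      Algebra.FiniteType.of_surjective (Ideal.Quotient.mkₐ k I) (Ideal.Quotient.mkₐ_surjective k I)
    haveI : IsArtinianRing (Γ(C, V) ⧸ I) := by
      haveI : IsNoetherianRing (Γ(C, V) ⧸ I) := inferInstance
      refine isArtinianRing_iff_krullDimLE_zero.2 (Ring.KrullDimLE.mk₀ fun q hq => ?_)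
      have hq' : I ≤ q.comap (Ideal.Quotient.mk I) := fun g hg => by
        rw [Ideal.mem_comap, Ideal.Quotient.eq_zero_iff_mem.2 hg]; exact q.zero_mem
      have hPq : P ≤ q.comap (Ideal.Quotient.mk I) :=
        hrad.trans ((Ideal.IsPrime.radical_le_iff inferInstance).2 hq')
      have := hPm.eq_of_le (Ideal.IsPrime.ne_top inferInstance) hPq
      rw [← Ideal.map_comap_of_surjective (Ideal.Quotient.mk I) Ideal.Quotient.mk_surjective q, ← this]
      refine (Ideal.map_eq_top_or_isMaximal_of_surjective (Ideal.Quotient.mk I) Ideal.Quotient.mk_surjective hPm).resolve_left fun h => hq.ne_top ?_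
      rw [← Ideal.map_comap_of_surjective (Ideal.Quotient.mk I) Ideal.Quotient.mk_surjective q, ← this]
      exact h
    exact (Module.finite_iff_isArtinianRing k _).2 inferInstance
  haveI : Module.Finite k (Γ(C', π ⁻¹ᵁ V) ⧸ R₀) := Module.Finite.trans (Γ(C, V) ⧸ I) _
  haveI : CharP k p := inferInstance
  rcases subsingleton_or_nontrivial Γ(C', π ⁻¹ᵁ V) with h | h
  · exact ⟨0, 0, Subsingleton.elim _ _⟩
  haveI : CharP Γ(C', π ⁻¹ᵁ V) p := charP_of_injective_algebraMap (algebraMap k Γ(C', π ⁻¹ᵁ V)).injective p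
  let G : (Γ(C', π ⁻¹ᵁ V) ⧸ R₀) →+ (Γ(C', π ⁻¹ᵁ V) ⧸ R₀) :=
    QuotientAddGroup.map R₀.toAddSubgroup R₀.toAddSubgroup (frobenius Γ(C', π ⁻¹ᵁ V) p).toAddMonoidHom fun z hz => by
      obtain ⟨a, rfl⟩ := hz
      exact ⟨a ^ p, map_pow φ a p⟩
  have hG : ∀ z, G (Submodule.Quotient.mk z) = Submodule.Quotient.mk (z ^ p) := fun z => rfl
  obtain ⟨y, hy⟩ := surjective_of_semilinear (k := k) p G (fun c y => by
      obtain ⟨y, rfl⟩ := Submodule.Quotient.mk_surjective _ y
      rw [← Submodule.Quotient.mk_smul, hG, hG, smul_pow, ← Submodule.Quotient.mk_smul])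
    ((injective_iff_map_eq_zero G).2 fun y hy => by
      obtain ⟨y, rfl⟩ := Submodule.Quotient.mk_surjective _ y
      rw [hG, Submodule.Quotient.mk_eq_zero] at hy
      obtain ⟨a, ha⟩ := hy
      obtain ⟨a', ha'⟩ := hroot y a ha
      exact (Submodule.Quotient.mk_eq_zero _).2 ⟨a', ha'⟩)
    (Submodule.Quotient.mk b)
  obtain ⟨c, rfl⟩ := Submodule.Quotient.mk_surjective _ y
  rw [hG, Submodule.Quotient.eq] at hy
  obtain ⟨a, ha⟩ := hy
  exact ⟨c, -a, by rw [show φ (-a) = -φ a from map_neg φ a, show φ a = c ^ p - b from ha]; abel⟩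

end Groth.Agent.FrobNodeLib
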